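import Cfsg.Agent.H198.FC.DefsB
import Cfsg.Agent.H277.FC.SN

/-!
# S5764: extraspecial type normalizers in dimension 8 (helper706)

`Ah A` : the lifts of `A` to units of `R`.  `lemM` : if `g` normalizes `A`, `rank (g - 1) ≤ 2` and `w ≠ 0` lies in the
image of `g - 1` then `w` is an eigenvector of a non-scalar lift of an element of `A` (`r = 2`, `dim V = 8`).
-/

set_option autoImplicit false

namespace Cfsg.Agent.H706.FC

open Module Cfsg.Agent.H198.FC Cfsg.Agent.H277.FC

universe u v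

section lift

variable {K : Type u} [Field K] {V : Type v} [AddCommGroup V] [Module K V]

/-- the lifts of `A` to units of `R` -/
def Ah (A : Subgroup (Equiv.Perm (R K V))) : Subgroup (R K V)ˣ := A.comap (cj K V)

theorem mem_Ah {A : Subgroup (Equiv.Perm (R K V))} {x : (R K V)ˣ} : x ∈ Ah A ↔ cj K V x ∈ A := Iff.rfl

/-- scalar -/
def Sc (X : R K V) : Prop := ∃ c : K, X = c • (1 : R K V)

theorem Sc.comm {X : R K V} (h : Sc X) (Y : R K V) : X * Y = Y * X := by
  obtain ⟨c, rfl⟩ := h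
  exact smul_one_comm c Y

theorem sc_of_comm [Nontrivial V] {X : R K V} (h : ∀ Y, X * Y = Y * X) : Sc X := exists_smul_one X h

theorem cj_eq_one_iff [Nontrivial V] (x : (R K V)ˣ) : cj K V x = 1 ↔ Sc (x : R K V) := by
  constructor
  · intro h
    refine sc_of_comm fun Y => ?_
    have h1 := congrArg (fun f : Equiv.Perm (R K V) => f Y) h
    simp only [cj_apply, Equiv.Perm.one_apply] at h1
    have h2 := congrArg (fun Z => Z * (x : R K V)) h1
    simpa [mul_assoc] using h2
  · intro h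
    apply Equiv.ext
    intro Y
    rw [cj_apply, Equiv.Perm.one_apply, h.comm Y, mul_assoc, Units.mul_inv, mul_one]

/-- commuting inner automorphisms -/
theorem exists_zeta [Nontrivial V] {x y : (R K V)ˣ} (h : cj K V x * cj K V y = cj K V y * cj K V x) :
    ∃ ζ : K, (x : R K V) * y = ζ • ((y : R K V) * x) := by
  have h1 : cj K V (x * y * x⁻¹ * y⁻¹) = 1 := by
    rw [map_mul, map_mul, map_mul, map_inv, map_inv, h, mul_assoc (cj K V y), mul_inv_cancel, mul_one, mul_inv_cancel]
  obtain ⟨ζ, hζ⟩ := (cj_eq_one_iff _).1 h1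
  refine ⟨ζ, ?_⟩
  have h2 : ((x * y * x⁻¹ * y⁻¹ : (R K V)ˣ) : R K V) * ((y : R K V) * x) = (x : R K V) * y := by
    simp [mul_assoc]
  rw [← h2, hζ, smul_mul_assoc, one_mul]

theorem exists_sq [Nontrivial V] {x : (R K V)ˣ} (h : cj K V x ^ 2 = 1) :
    ∃ c : K, (x : R K V) * x = c • (1 : R K V) := by
  have h1 : cj K V (x * x) = 1 := by rw [map_mul, ← pow_two, h]
  exact (cj_eq_one_iff _).1 h1

theorem unit_ne_zero [Nontrivial V] (x : (R K V)ˣ) : (x : R K V) ≠ 0 := x.ne_zero

theorem unit_inj (x : (R K V)ˣ) {v : V} (h : (x : R K V) v = 0) : v = 0 := by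
  have h1 : ((x⁻¹ : (R K V)ˣ) : R K V) ((x : R K V) v) = v := by
    rw [← Module.End.mul_apply, Units.inv_mul, Module.End.one_apply]
  rw [← h1, h, map_zero]

theorem zeta_sq [Nontrivial V] {x y : (R K V)ˣ} {ζ c : K} (h : (x : R K V) * y = ζ • ((y : R K V) * x))
    (hc : (x : R K V) * x = c • (1 : R K V)) : ζ * ζ = 1 := by
  have hc0 : c ≠ 0 := by
    rintro rfl
    rw [zero_smul] at hc
    exact unit_ne_zero (x * x) hc
  have h1 : (x : R K V) * x * y = (ζ * ζ * c) • (y : R K V) := by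
    rw [mul_assoc, h, mul_smul_comm, ← mul_assoc, h, smul_mul_assoc, mul_assoc, hc, mul_smul_comm, mul_one,
      smul_smul, smul_smul, mul_assoc]
  rw [hc, smul_mul_assoc, one_mul] at h1
  have h2 : c = ζ * ζ * c := smul_left_injective K (unit_ne_zero y) h1
  have h3 : (ζ * ζ - 1) * c = 0 := by rw [sub_mul, one_mul, ← h2, sub_self]
  rcases mul_eq_zero.1 h3 with h4 | h4
  · exact sub_eq_zero.1 h4
  · exact absurd h4 hc0

variable {A : Subgroup (Equiv.Perm (R K V))}

/-- the lifts of `A` span `R` -/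
def Spn (A : Subgroup (Equiv.Perm (R K V))) : Prop :=
  Submodule.span K {X : R K V | ∃ x : (R K V)ˣ, (x : R K V) = X ∧ cj K V x ∈ A} = ⊤

theorem exists_not_comm [Nontrivial V] (hsp : Spn A) {X : R K V} (hX : ¬ Sc X) :
    ∃ y ∈ Ah A, X * (y : R K V) ≠ (y : R K V) * X := by
  by_contra hcon
  push Not at hcon
  apply hX
  refine sc_of_comm fun Y => ?_
  have hY : Y ∈ Submodule.span K {X : R K V | ∃ x : (R K V)ˣ, (x : R K V) = X ∧ cj K V x ∈ A} := by
    rw [hsp]; trivial
  induction hY using Submodule.span_induction with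
  | mem Z hZ =>
    obtain ⟨x, rfl, hx⟩ := hZ
    exact hcon x hx
  | zero => rw [mul_zero, zero_mul]
  | add Z Z' _ _ h1 h2 => rw [mul_add, add_mul, h1, h2]
  | smul a Z _ h1 => rw [mul_smul_comm, smul_mul_assoc, h1]

/-- **a non-scalar lift anticommutes with another lift** (`r = 2`) -/
theorem exists_anti [Nontrivial V] (hsp : Spn A) (hc : ∀ f ∈ A, ∀ g ∈ A, f * g = g * f) (hs : ∀ f ∈ A, f ^ 2 = 1)
    {x : (R K V)ˣ} (hx : x ∈ Ah A) (hx' : ¬ Sc (x : R K V)) :
    (2 : K) ≠ 0 ∧ ∃ y ∈ Ah A, (x : R K V) * y = - ((y : R K V) * x) := by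
  obtain ⟨y, hy, hxy⟩ := exists_not_comm hsp hx'
  obtain ⟨ζ, hζ⟩ := exists_zeta (hc _ hx _ hy)
  obtain ⟨c, hcx⟩ := exists_sq (hs _ hx)
  have h1 := zeta_sq hζ hcx
  have h2 : ζ ≠ 1 := by
    rintro rfl
    rw [one_smul] at hζ
    exact hxy hζ
  have h3 : ζ = -1 := by
    rcases mul_self_eq_one_iff.1 h1 with h | h
    · exact absurd h h2
    · exact h
  subst h3
  refine ⟨fun h => h2 ?_, y, hy, by rw [hζ, neg_smul, one_smul]⟩
  have h4 : (1 : K) + 1 = 0 := by rw [one_add_one_eq_two, h]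
  exact (eq_neg_of_add_eq_zero_left h4).symm

theorem finrank_map_unit (y : (R K V)ˣ) (E : Submodule K V) : finrank K (E.map (y : R K V)) = finrank K E :=
  (Submodule.equivMapOfInjective (y : R K V) (fun a b h => sub_eq_zero.1 (unit_inj y (by rw [map_sub, h, sub_self])))
    E).finrank_eq.symm

theorem mem_ker_sub {X : R K V} {l : K} {v : V} : v ∈ LinearMap.ker (X - l • (1 : R K V)) ↔ X v = l • v := by
  rw [LinearMap.mem_ker, LinearMap.sub_apply, sub_eq_zero]
  rfl

/-- conjugates of lifts by normalizing units -/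
theorem comm_mem {g b : (R K V)ˣ} (hg : ∀ f ∈ A, cj K V g * f * (cj K V g)⁻¹ ∈ A) (hb : b ∈ Ah A) :
    g * b * g⁻¹ * b⁻¹ ∈ Ah A := by
  rw [mem_Ah, map_mul, map_mul, map_mul, map_inv, map_inv]
  exact mul_mem (hg _ hb) (inv_mem hb)

variable [Module.Finite K V]

/-- a subspace moved off itself by an injective map -/
theorem two_mul_finrank_le {E : Submodule K V} (y : (R K V)ˣ) (h : E ⊓ E.map (y : R K V) = ⊥) :
    2 * finrank K E ≤ finrank K V := by
  have h1 := Submodule.finrank_sup_add_finrank_inf_eq E (E.map (y : R K V))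
  rw [h, finrank_bot, add_zero] at h1
  have h2 : finrank K (E.map (y : R K V)) = finrank K E := finrank_map_unit y E
  have h3 := Submodule.finrank_le (E ⊔ E.map (y : R K V))
  omega

/-- **the eigenspaces of a non-scalar lift have dimension `≤ n / 2`** -/
theorem finrank_eigen_le [Nontrivial V] (hsp : Spn A) (hc : ∀ f ∈ A, ∀ g ∈ A, f * g = g * f)
    (hs : ∀ f ∈ A, f ^ 2 = 1) {x : (R K V)ˣ} (hx : x ∈ Ah A) (hx' : ¬ Sc (x : R K V)) (l : K) :
    2 * finrank K (LinearMap.ker ((x : R K V) - l • (1 : R K V))) ≤ finrank K V := by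
  obtain ⟨h2, y, hy, hxy⟩ := exists_anti hsp hc hs hx hx'
  refine two_mul_finrank_le y ?_
  rw [eq_bot_iff]
  rintro v ⟨hv1, u, hu, rfl⟩
  have hv1 := mem_ker_sub.1 hv1
  have hu := mem_ker_sub.1 hu
  have h3 : (x : R K V) ((y : R K V) u) = - (l • (y : R K V) u) := by
    have h4 := LinearMap.congr_fun hxy u
    rw [Module.End.mul_apply, LinearMap.neg_apply, Module.End.mul_apply, hu, map_smul] at h4
    exact h4
  rw [h3] at hv1
  have h5 : (2 : K) • (l • (y : R K V) u) = 0 := by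
    rw [two_smul]
    nth_rewrite 1 [← hv1]
    rw [neg_add_cancel]
  rcases smul_eq_zero.1 h5 with h6 | h6
  · exact absurd h6 h2
  · rw [h6, neg_zero] at h3
    have h7 := unit_inj x h3
    rw [Submodule.mem_bot]
    exact h7

/-- **Lemma M** -/
theorem lemM (hn : finrank K V = 8) (hsp : Spn A) (hc : ∀ f ∈ A, ∀ g ∈ A, f * g = g * f)
    (hs : ∀ f ∈ A, f ^ 2 = 1) {g : (R K V)ˣ} (hg : ∀ f ∈ A, cj K V g * f * (cj K V g)⁻¹ ∈ A)
    (hr : finrank K (LinearMap.range ((g : R K V) - 1)) ≤ 2) {w : V} (hw : w ∈ LinearMap.range ((g : R K V) - 1))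
    (hw0 : w ≠ 0) : ∃ y ∈ Ah A, ¬ Sc (y : R K V) ∧ ∃ l : K, (y : R K V) w = l • w := by
  have : Nontrivial V := ⟨w, 0, hw0⟩
  have hrk := LinearMap.finrank_range_add_finrank_ker ((g : R K V) - 1)
  -- `g` is not scalar
  have hgs : ¬ Sc (g : R K V) := by
    rintro ⟨l, hl⟩
    by_cases h1 : l = 1
    · obtain ⟨z, hz⟩ := hw
      rw [hl, h1, one_smul, sub_self, LinearMap.zero_apply] at hz
      exact hw0 hz.symm
    · have h2 : LinearMap.ker ((g : R K V) - 1) = ⊥ := by
        rw [eq_bot_iff]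
        intro v hv
        rw [LinearMap.mem_ker, LinearMap.sub_apply, hl] at hv
        have h3 : (l - 1) • v = 0 := by
          rw [sub_smul, one_smul]
          exact hv
        rcases smul_eq_zero.1 h3 with h4 | h4
        · exact absurd (sub_eq_zero.1 h4) h1
        · rw [h4]; exact zero_mem _
      rw [h2, finrank_bot] at hrk
      omega
  -- `g` does not centralize `A`
  obtain ⟨b, hb, hcb⟩ : ∃ b ∈ Ah A, ¬ Sc ((g * b * g⁻¹ * b⁻¹ : (R K V)ˣ) : R K V) := by
    by_contra hcon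
    push Not at hcon
    obtain ⟨b, hb, hgb⟩ := exists_not_comm hsp hgs
    obtain ⟨ζ, hζ⟩ := hcon b hb
    have h1 : (g : R K V) * b = ζ • ((b : R K V) * g) := by
      have h2 : ((g * b * g⁻¹ * b⁻¹ : (R K V)ˣ) : R K V) * ((b : R K V) * g) = (g : R K V) * b := by
        simp [mul_assoc]
      rw [← h2, hζ, smul_mul_assoc, one_mul]
    have hζ1 : ζ ≠ 1 := by
      rintro rfl
      rw [one_smul] at h1
      exact hgb h1
    have h3 := two_mul_finrank_le (E := LinearMap.ker ((g : R K V) - 1)) b (by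
      rw [eq_bot_iff]
      rintro v ⟨hv1, u, hu, rfl⟩
      have hv2 : (g : R K V) ((b : R K V) u) = (b : R K V) u := by
        have := LinearMap.mem_ker.1 hv1
        rw [LinearMap.sub_apply, sub_eq_zero] at this
        exact this
      have hu2 : (g : R K V) u = u := by
        have := LinearMap.mem_ker.1 hu
        rw [LinearMap.sub_apply, sub_eq_zero] at this
        exact this
      have h4 := LinearMap.congr_fun h1 u
      rw [Module.End.mul_apply, LinearMap.smul_apply, Module.End.mul_apply, hu2, hv2] at h4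
      have h5 : (ζ - 1) • (b : R K V) u = 0 := by rw [sub_smul, one_smul, ← h4, sub_self]
      rcases smul_eq_zero.1 h5 with h6 | h6
      · exact absurd (sub_eq_zero.1 h6) hζ1
      · rw [h6]; exact zero_mem _)
    omega
  set c : (R K V)ˣ := g * b * g⁻¹ * b⁻¹ with hcdef
  have hcA : c ∈ Ah A := comm_mem hg hb
  have hle : LinearMap.range ((c : R K V) - 1) ≤
      LinearMap.range ((g : R K V) - 1) ⊔ (LinearMap.range ((g : R K V) - 1)).map (b : R K V) := by
    rintro _ ⟨v, rfl⟩
    have h1 : (c : R K V) - 1 = ((g : R K V) - 1) * ((b : R K V) * (g⁻¹ : (R K V)ˣ) * (b⁻¹ : (R K V)ˣ)) -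
        (b : R K V) * (((g : R K V) - 1) * ((g⁻¹ : (R K V)ˣ) * (b⁻¹ : (R K V)ˣ))) := by
      rw [hcdef]
      simp only [Units.val_mul, sub_mul, mul_sub, one_mul, ← mul_assoc]
      rw [mul_assoc (b : R K V) g, Units.mul_inv, mul_one, Units.mul_inv]
      abel
    rw [h1, LinearMap.sub_apply]
    refine sub_mem (Submodule.mem_sup_left ⟨_, rfl⟩) (Submodule.mem_sup_right ⟨_, ⟨_, rfl⟩, rfl⟩)
  have h4 := finrank_eigen_le hsp hc hs hcA hcb 1
  rw [one_smul] at h4
  have h5 := LinearMap.finrank_range_add_finrank_ker ((c : R K V) - 1)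
  have h6 : finrank K ↥(LinearMap.range ((g : R K V) - 1) ⊔ (LinearMap.range ((g : R K V) - 1)).map (b : R K V)) ≤ 4 := by
    have h7 := Submodule.finrank_add_le_finrank_add_finrank (LinearMap.range ((g : R K V) - 1))
      ((LinearMap.range ((g : R K V) - 1)).map (b : R K V))
    rw [finrank_map_unit] at h7
    omega
  have h8 := Submodule.eq_of_le_of_finrank_le hle (by omega)
  have hwc : w ∈ LinearMap.range ((c : R K V) - 1) := by
    rw [h8]
    exact Submodule.mem_sup_left hw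
  have h9 : 0 < finrank K (LinearMap.ker ((c : R K V) - 1)) := by
    have h10 : finrank K (LinearMap.range ((c : R K V) - 1)) ≤ 4 := by rw [h8]; exact h6
    omega
  obtain ⟨u, hu0⟩ := Module.finrank_pos_iff_exists_ne_zero.1 h9
  have hu : (c : R K V) (u : V) = u := by
    have := LinearMap.mem_ker.1 u.2
    rw [LinearMap.sub_apply, sub_eq_zero] at this
    exact this
  have hu0' : (u : V) ≠ 0 := fun h => hu0 (Subtype.ext h)
  obtain ⟨μ, hμ⟩ := exists_sq (hs _ hcA)
  have hμ1 : (c : R K V) * c = 1 := by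
    have h11 := LinearMap.congr_fun hμ (u : V)
    rw [Module.End.mul_apply, hu, hu, LinearMap.smul_apply, Module.End.one_apply] at h11
    have h12 : (μ - 1) • (u : V) = 0 := by rw [sub_smul, one_smul, ← h11, sub_self]
    rcases smul_eq_zero.1 h12 with h13 | h13
    · rw [hμ, sub_eq_zero.1 h13, one_smul]
    · exact absurd h13 hu0'
  refine ⟨c, hcA, hcb, -1, ?_⟩
  obtain ⟨z, rfl⟩ := hwc
  have h14 := LinearMap.congr_fun hμ1 z
  rw [Module.End.mul_apply, Module.End.one_apply] at h14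
  rw [LinearMap.sub_apply, Module.End.one_apply, map_sub, h14, neg_smul, one_smul, neg_sub]

end lift

end Cfsg.Agent.H706.FC
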