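import Cfsg.Agent.H706.FC.Spei
import Mathlib.NumberTheory.LegendreSymbol.QuadraticChar.Basic

/-!
# S5764: a vector which is not an eigenvector of a non-scalar lift, dimension 8 (helper706)
-/

set_option autoImplicit false

namespace Cfsg.Agent.H706.FC

open Module Cfsg.Agent.H198.FC Cfsg.Agent.H277.FC

universe u v

section cnt

variable {K : Type u} [Field K] {V : Type v} [AddCommGroup V] [Module K V]

/-- lifts with their structure constants -/
structure Lft (A : Subgroup (Equiv.Perm (R K V))) where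
  /-- the lifts -/
  x : A → (R K V)ˣ
  hx : ∀ a, cj K V (x a) = a
  /-- squares -/
  c : A → K
  hc : ∀ a, (x a : R K V) * x a = c a • (1 : R K V)
  /-- commutators -/
  z : A → A → K
  hz : ∀ a b, (x a : R K V) * x b = z a b • ((x b : R K V) * x a)

variable {A : Subgroup (Equiv.Perm (R K V))}

theorem exists_lft [Nontrivial V] (hIN : A ≤ IN K V) (hc : ∀ f ∈ A, ∀ g ∈ A, f * g = g * f)
    (hs : ∀ f ∈ A, f ^ 2 = 1) : Nonempty (Lft A) := by
  choose x hx using fun a : A => hIN a.2
  choose c hc' using fun a : A => exists_sq (x := x a) (by rw [hx a]; exact hs _ a.2)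
  choose z hz using fun a b : A => exists_zeta (x := x a) (y := x b) (by rw [hx a, hx b]; exact hc _ a.2 _ b.2)
  exact ⟨⟨x, hx, c, hc', z, hz⟩⟩

namespace Lft

variable (L : Lft A)

theorem c_ne [Nontrivial V] (a : A) : L.c a ≠ 0 := by
  intro h
  have h1 := L.hc a
  rw [h, zero_smul] at h1
  exact unit_ne_zero (L.x a * L.x a) h1

theorem exists_lam [Nontrivial V] (a b : A) : ∃ l : K, l ≠ 0 ∧ (L.x (a * b) : R K V) = l • ((L.x a : R K V) * L.x b) := by
  obtain ⟨l, hl⟩ := units_smul (x := L.x (a * b)) (x' := L.x a * L.x b) (by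
    rw [map_mul, L.hx, L.hx, L.hx]; rfl)
  refine ⟨l, ?_, hl⟩
  rintro rfl
  rw [zero_smul] at hl
  exact unit_ne_zero _ hl

theorem c_mul [Nontrivial V] (a b : A) : ∃ l : K, l ≠ 0 ∧ L.c (a * b) = l ^ 2 * L.z b a * (L.c a * L.c b) := by
  obtain ⟨l, hl0, hl⟩ := L.exists_lam a b
  refine ⟨l, hl0, ?_⟩
  have h1 := L.hc (a * b)
  have h2 : (L.x (a * b) : R K V) * L.x (a * b) = (l ^ 2 * L.z b a * (L.c a * L.c b)) • (1 : R K V) := by
    rw [hl, smul_mul_smul_comm]
    have h3 : (L.x a : R K V) * L.x b * ((L.x a : R K V) * L.x b) = (L.z b a * (L.c a * L.c b)) • (1 : R K V) := by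
      rw [mul_assoc, ← mul_assoc (L.x b : R K V), L.hz b a, smul_mul_assoc, mul_smul_comm, ← mul_assoc, ← mul_assoc,
        L.hc a, smul_mul_assoc, one_mul, smul_mul_assoc, L.hc b, smul_smul, smul_smul, mul_assoc]
    rw [h3, smul_smul]
    congr 1
    ring
  exact (smul_left_injective K (one_ne_zero (α := R K V)) (h1.symm.trans h2))

theorem z_mul [Nontrivial V] (e a b : A) : L.z e (a * b) = L.z e a * L.z e b := by
  obtain ⟨l, hl0, hl⟩ := L.exists_lam a b
  have h1 := L.hz e (a * b)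
  have h2 : (L.x e : R K V) * L.x (a * b) = (L.z e a * L.z e b) • ((L.x (a * b) : R K V) * L.x e) := by
    rw [hl, mul_smul_comm, smul_mul_assoc, ← mul_assoc, L.hz e a, smul_mul_assoc, mul_assoc, L.hz e b, mul_smul_comm,
      smul_smul, smul_smul, ← mul_assoc, smul_smul]
    congr 1
    ring
  exact smul_left_injective K (unit_ne_zero (L.x (a * b) * L.x e)) (h1.symm.trans h2)

theorem not_sc [Nontrivial V] {a : A} (ha : a ≠ 1) : ¬ Sc (L.x a : R K V) := by
  intro h
  have h1 := (cj_eq_one_iff _).2 h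
  rw [L.hx a] at h1
  exact ha (Subtype.ext h1)

theorem one_sc [Nontrivial V] : Sc (L.x 1 : R K V) := (cj_eq_one_iff _).1 (by rw [L.hx]; rfl)

theorem c_one [Nontrivial V] : ∃ l : K, l ≠ 0 ∧ L.c 1 = l ^ 2 := by
  obtain ⟨l, hl⟩ := L.one_sc
  have h1 := L.hc 1
  rw [hl, smul_mul_smul_comm, one_mul] at h1
  have h2 := smul_left_injective K (one_ne_zero (α := R K V)) h1
  refine ⟨l, ?_, by rw [← h2, pow_two]⟩
  rintro rfl
  rw [zero_smul] at hl
  exact unit_ne_zero _ hl

theorem z_one [Nontrivial V] (a : A) : L.z 1 a = 1 := by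
  have h1 := L.hz 1 a
  rw [L.one_sc.comm] at h1
  have h2 : (1 : K) • ((L.x a : R K V) * L.x 1) = L.z 1 a • ((L.x a : R K V) * L.x 1) := by rw [one_smul]; exact h1
  exact (smul_left_injective K (unit_ne_zero (L.x a * L.x 1)) h2).symm

theorem exists_z [Nontrivial V] (hsp : Spn A) (hc : ∀ f ∈ A, ∀ g ∈ A, f * g = g * f) (hs : ∀ f ∈ A, f ^ 2 = 1)
    {a : A} (ha : a ≠ 1) : ∃ b, L.z a b = -1 := by
  obtain ⟨-, y, hy, hxy⟩ := exists_anti (x := L.x a) hsp hc hs (by rw [mem_Ah, L.hx]; exact a.2) (L.not_sc ha)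
  refine ⟨⟨cj K V y, hy⟩, ?_⟩
  obtain ⟨m, hm⟩ := units_smul (x := L.x ⟨cj K V y, hy⟩) (x' := y) (L.hx _)
  have h1 := L.hz a ⟨cj K V y, hy⟩
  rw [hm, mul_smul_comm, hxy, smul_neg] at h1
  have h2 : (-1 : K) • ((L.x ⟨cj K V y, hy⟩ : R K V) * L.x a) =
      L.z a ⟨cj K V y, hy⟩ • ((L.x ⟨cj K V y, hy⟩ : R K V) * L.x a) := by
    rw [neg_smul, one_smul]
    conv_rhs => rw [hm]
    rw [← h1, hm, smul_mul_assoc]
  exact (smul_left_injective K (unit_ne_zero (L.x ⟨cj K V y, hy⟩ * L.x a)) h2).symm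

/-- **the sum of the signs** -/
theorem sum_sq [Nontrivial V] [Fintype K] [DecidableEq K] [Fintype A] (hsp : Spn A)
    (hc : ∀ f ∈ A, ∀ g ∈ A, f * g = g * f) (hs : ∀ f ∈ A, f ^ 2 = 1) (hq : quadraticChar K (-1) = -1) :
    (∑ a : A, quadraticChar K (L.c a)) ^ 2 = Fintype.card A := by
  classical
  set ε : A → ℤ := fun a => quadraticChar K (L.c a) with hε
  set χ : A → A → ℤ := fun a b => quadraticChar K (L.z a b) with hχ
  have hεε : ∀ a, ε a * ε a = 1 := by
    intro a
    have := quadraticChar_sq_one (F := K) (L.c_ne a)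
    rw [← pow_two]
    exact this
  have h1 : ∀ a b, ε (a * b) = χ b a * (ε a * ε b) := by
    intro a b
    obtain ⟨l, hl0, hl⟩ := L.c_mul a b
    have h2 : quadraticChar K (l ^ 2) = 1 := quadraticChar_sq_one' hl0
    simp only [hε, hχ]
    rw [hl, map_mul, map_mul, map_mul, h2, one_mul]
  have h2 : ∀ e, ∑ a, χ e a = if e = 1 then (Fintype.card A : ℤ) else 0 := by
    intro e
    split_ifs with h
    · subst h
      have : ∀ a, χ 1 a = 1 := fun a => by simp only [hχ]; rw [L.z_one, map_one]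
      simp [this]
    · obtain ⟨b, hb⟩ := L.exists_z hsp hc hs h
      have h3 : ∑ a, χ e a = ∑ a, χ e (b * a) := (Fintype.sum_equiv (Equiv.mulLeft b) _ _ fun a => rfl).symm
      have h4 : ∀ a, χ e (b * a) = - χ e a := by
        intro a
        simp only [hχ]
        rw [L.z_mul, map_mul, hb, hq, neg_one_mul]
      rw [Finset.sum_congr rfl fun a _ => h4 a, Finset.sum_neg_distrib] at h3
      omega
  have h3 : ∀ a, ∑ b, ε b = ∑ e, ε (a * e) := fun a => (Fintype.sum_equiv (Equiv.mulLeft a) _ _ fun e => rfl).symm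
  rw [pow_two, Finset.sum_mul]
  have h4 : ∀ a, ε a * ∑ b, ε b = ∑ e, χ e a * ε e := by
    intro a
    rw [h3 a, Finset.mul_sum]
    refine Finset.sum_congr rfl fun e _ => ?_
    rw [h1, ← mul_assoc, mul_comm (ε a), mul_assoc, ← mul_assoc (ε a), hεε, one_mul]
  rw [Finset.sum_congr rfl fun a _ => h4 a, Finset.sum_comm]
  have h5 : ∀ e, ∑ a, χ e a * ε e = if e = 1 then (Fintype.card A : ℤ) else 0 := by
    intro e
    rw [← Finset.sum_mul, h2]
    split_ifs with h
    · subst h
      obtain ⟨l, hl0, hl⟩ := L.c_one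
      have h6 : ε 1 = 1 := by
        simp only [hε]
        rw [hl]
        exact quadraticChar_sq_one' hl0
      rw [h6, mul_one]
    · rw [zero_mul]
  rw [Finset.sum_congr rfl fun e _ => h5 e]
  simp

/-- `q = 3`: at most `36` of the lifts have a square which is a square -/
theorem card_sq_le [Nontrivial V] [Fintype K] [DecidableEq K] [Fintype A] (hA : Fintype.card A = 64) (hsp : Spn A)
    (hc : ∀ f ∈ A, ∀ g ∈ A, f * g = g * f) (hs : ∀ f ∈ A, f ^ 2 = 1) (hq : quadraticChar K (-1) = -1) :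
    (Finset.univ.filter fun a : A => quadraticChar K (L.c a) = 1).card ≤ 36 := by
  classical
  have h1 := L.sum_sq hsp hc hs hq
  have h2 : ∑ a : A, quadraticChar K (L.c a) =
      2 * (Finset.univ.filter fun a : A => quadraticChar K (L.c a) = 1).card - 64 := by
    have h3 : ∀ a : A, quadraticChar K (L.c a) = 2 * (if quadraticChar K (L.c a) = 1 then 1 else 0) - 1 := by
      intro a
      rcases quadraticChar_dichotomy (F := K) (L.c_ne a) with h | h
      · rw [h]; simp
      · rw [h]; simp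
    rw [Finset.sum_congr rfl fun a _ => h3 a, Finset.sum_sub_distrib, ← Finset.mul_sum, Finset.sum_boole]
    simp [hA]
  rw [h2, hA] at h1
  by_contra hcon
  push Not at hcon
  have h4 : (37 : ℤ) ≤ (Finset.univ.filter fun a : A => quadraticChar K (L.c a) = 1).card := by exact_mod_cast hcon
  push_cast at h1
  nlinarith

end Lft

variable [Module.Finite K V]

theorem card_ker [Fintype K] [Fintype V] (X : R K V) {d : ℕ} (hd : finrank K (LinearMap.ker X) ≤ d)
    [DecidablePred fun v : V => X v = 0] :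
    (Finset.univ.filter fun v : V => X v = 0).card ≤ Fintype.card K ^ d := by
  have h1 : (Finset.univ.filter fun v : V => X v = 0).card = Nat.card (LinearMap.ker X) := by
    have h2 : Nat.card (LinearMap.ker X) = Nat.card {v : V // X v = 0} :=
      Nat.card_congr (Equiv.subtypeEquivRight fun v => LinearMap.mem_ker)
    rw [h2, Nat.card_eq_fintype_card, Fintype.card_subtype]
  rw [h1, Module.natCard_eq_pow_finrank (K := K), Nat.card_eq_fintype_card]
  exact Nat.pow_le_pow_right Fintype.card_pos hd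

/-- the eigenvectors of a non-scalar lift -/
theorem card_eigen [Nontrivial V] [Fintype K] [Fintype V] [DecidableEq V] (hn : finrank K V = 8) (hsp : Spn A)
    (hc : ∀ f ∈ A, ∀ g ∈ A, f * g = g * f) (hs : ∀ f ∈ A, f ^ 2 = 1) (L : Lft A) {a : A} (ha : a ≠ 1)
    [DecidablePred fun w : V => w ≠ 0 ∧ ∃ l : K, (L.x a : R K V) w = l • w] :
    (Finset.univ.filter fun w : V => w ≠ 0 ∧ ∃ l : K, (L.x a : R K V) w = l • w).card ≤
      2 * (Fintype.card K ^ 4 - 1) := by
  classical
  rcases Finset.eq_empty_or_nonempty (Finset.univ.filter fun w : V => w ≠ 0 ∧ ∃ l : K, (L.x a : R K V) w = l • w)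
    with h | ⟨w₀, hw₀⟩
  · rw [h, Finset.card_empty]; exact Nat.zero_le _
  obtain ⟨hw0, l₀, hl₀⟩ := (Finset.mem_filter.1 hw₀).2
  have hsqe : ∀ (w : V) (l : K), w ≠ 0 → (L.x a : R K V) w = l • w → l * l = L.c a := by
    intro w l hw hl
    have h1 := LinearMap.congr_fun (L.hc a) w
    rw [Module.End.mul_apply, hl, map_smul, hl, smul_smul, LinearMap.smul_apply, Module.End.one_apply] at h1
    exact smul_left_injective K hw h1
  have hsub : (Finset.univ.filter fun w : V => w ≠ 0 ∧ ∃ l : K, (L.x a : R K V) w = l • w) ⊆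
      ((Finset.univ.filter fun v : V => ((L.x a : R K V) - l₀ • (1 : R K V)) v = 0).erase 0) ∪
      ((Finset.univ.filter fun v : V => ((L.x a : R K V) - (-l₀) • (1 : R K V)) v = 0).erase 0) := by
    intro w hw
    obtain ⟨hw1, l, hl⟩ := (Finset.mem_filter.1 hw).2
    have h1 : l * l = l₀ * l₀ := by rw [hsqe w l hw1 hl, hsqe w₀ l₀ hw0 hl₀]
    rcases mul_self_eq_mul_self_iff.1 h1 with h2 | h2
    · refine Finset.mem_union_left _ (Finset.mem_erase.2 ⟨hw1, Finset.mem_filter.2 ⟨Finset.mem_univ _, ?_⟩⟩)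
      exact LinearMap.mem_ker.1 (mem_ker_sub.2 (by rw [hl, h2]))
    · refine Finset.mem_union_right _ (Finset.mem_erase.2 ⟨hw1, Finset.mem_filter.2 ⟨Finset.mem_univ _, ?_⟩⟩)
      exact LinearMap.mem_ker.1 (mem_ker_sub.2 (by rw [hl, h2]))
  have hcard : ∀ l : K, ((Finset.univ.filter fun v : V => ((L.x a : R K V) - l • (1 : R K V)) v = 0).erase 0).card ≤
      Fintype.card K ^ 4 - 1 := by
    intro l
    have h0 : (0 : V) ∈ Finset.univ.filter fun v : V => ((L.x a : R K V) - l • (1 : R K V)) v = 0 :=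
      Finset.mem_filter.2 ⟨Finset.mem_univ _, LinearMap.map_zero _⟩
    rw [Finset.card_erase_of_mem h0]
    refine Nat.sub_le_sub_right (card_ker _ ?_) 1
    have := finrank_eigen_le (x := L.x a) hsp hc hs (by rw [mem_Ah, L.hx]; exact a.2) (L.not_sc ha) l
    omega
  refine (Finset.card_le_card hsub).trans ((Finset.card_union_le _ _).trans ?_)
  have h1 := hcard l₀
  have h2 := hcard (-l₀)
  omega

/-- **existence of `w`** -/
theorem exists_w [Finite K] (hn : finrank K V = 8) (hsp : Spn A) (hIN : A ≤ IN K V)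
    (hc : ∀ f ∈ A, ∀ g ∈ A, f * g = g * f) (hs : ∀ f ∈ A, f ^ 2 = 1) (hA : Nat.card A = 64) :
    ∃ w : V, w ≠ 0 ∧ ∀ y ∈ Ah A, (∃ l : K, (y : R K V) w = l • w) → Sc (y : R K V) := by
  classical
  have : Nontrivial V := Module.nontrivial_of_finrank_pos (R := K) (by omega)
  have : Fintype K := Fintype.ofFinite K
  have : Finite V := Module.finite_of_finite K
  have : Fintype V := Fintype.ofFinite V
  have : Finite A := Nat.finite_of_card_ne_zero (by omega)
  have : Fintype A := Fintype.ofFinite A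
  have hA' : Fintype.card A = 64 := by rw [← Nat.card_eq_fintype_card, hA]
  obtain ⟨L⟩ := exists_lft hIN hc hs
  -- characteristic
  obtain ⟨a₁, ha₁⟩ : ∃ a : A, a ≠ 1 := by
    have : Nontrivial A := Fintype.one_lt_card_iff_nontrivial.1 (by omega)
    exact exists_ne 1
  have h2 : (2 : K) ≠ 0 :=
    (exists_anti (x := L.x a₁) hsp hc hs (by rw [mem_Ah, L.hx]; exact a₁.2) (L.not_sc ha₁)).1
  have hchar : ringChar K ≠ 2 := by
    intro h
    have := ringChar.Nat.cast_ringChar (R := K)
    rw [h] at this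
    exact h2 (by exact_mod_cast this)
  have hodd : Fintype.card K % 2 = 1 := FiniteField.odd_card_of_char_ne_two hchar
  set q := Fintype.card K with hq
  set E : A → Finset V := fun a => Finset.univ.filter fun w : V => w ≠ 0 ∧ ∃ l : K, (L.x a : R K V) w = l • w with hE
  set T : Finset A := Finset.univ.filter fun a : A => a ≠ 1 ∧ (E a).Nonempty with hT
  -- the number of classes with eigenvectors
  have hTc : 2 * T.card < q ^ 4 + 1 := by
    have hT63 : T.card ≤ 63 := by
      have h3 : T ⊆ Finset.univ.erase 1 := fun a ha => Finset.mem_erase.2 ⟨(Finset.mem_filter.1 ha).2.1, Finset.mem_univ _⟩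
      have h4 := Finset.card_le_card h3
      rw [Finset.card_erase_of_mem (Finset.mem_univ _), Finset.card_univ, hA'] at h4
      exact h4
    by_cases h5 : 5 ≤ q
    · have h6 : 5 ^ 4 ≤ q ^ 4 := Nat.pow_le_pow_left h5 4
      omega
    · have hq1 : 1 < q := Fintype.one_lt_card
      have hq3 : q = 3 := by omega
      have hm : quadraticChar K (-1) = -1 := by
        rw [quadraticChar_neg_one hchar, ← hq, hq3]
        decide
      have h6 := L.card_sq_le hA' hsp hc hs hm
      have h7 : T ⊆ (Finset.univ.filter fun a : A => quadraticChar K (L.c a) = 1).erase 1 := by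
        intro a ha
        obtain ⟨ha1, w, hw⟩ := (Finset.mem_filter.1 ha).2
        obtain ⟨hw0, l, hl⟩ := (Finset.mem_filter.1 hw).2
        refine Finset.mem_erase.2 ⟨ha1, Finset.mem_filter.2 ⟨Finset.mem_univ _, ?_⟩⟩
        have h8 : L.c a = l ^ 2 := by
          have h1 := LinearMap.congr_fun (L.hc a) w
          rw [Module.End.mul_apply, hl, map_smul, hl, smul_smul, LinearMap.smul_apply, Module.End.one_apply] at h1
          rw [pow_two]
          exact (smul_left_injective K hw0 h1).symm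
        rw [h8]
        refine quadraticChar_sq_one' ?_
        rintro rfl
        exact L.c_ne a (by rw [h8]; ring)
      have h8 := Finset.card_le_card h7
      rw [Finset.card_erase_of_mem (Finset.mem_filter.2 ⟨Finset.mem_univ _, by
        obtain ⟨l, hl0, hl⟩ := L.c_one
        rw [hl]
        exact quadraticChar_sq_one' hl0⟩)] at h8
      rw [hq3]
      omega
  -- counting
  have hbad : (T.biUnion E).card < (Finset.univ.erase (0 : V)).card := by
    have h3 : (T.biUnion E).card ≤ T.card * (2 * (q ^ 4 - 1)) := by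
      refine Finset.card_biUnion_le_card_mul _ _ _ fun a ha => ?_
      exact card_eigen hn hsp hc hs L (Finset.mem_filter.1 ha).2.1
    have h4 : (Finset.univ.erase (0 : V)).card = q ^ 8 - 1 := by
      rw [Finset.card_erase_of_mem (Finset.mem_univ _), Finset.card_univ, Module.card_eq_pow_finrank (K := K), hn]
    rw [h4]
    refine lt_of_le_of_lt h3 ?_
    have h5 : 1 < q ^ 4 := Nat.one_lt_pow (by norm_num) Fintype.one_lt_card
    obtain ⟨k, hk⟩ : ∃ k, q ^ 4 = k + 1 := ⟨q ^ 4 - 1, by omega⟩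
    have h6 : q ^ 8 = (q ^ 4) * (q ^ 4) := by ring
    rw [h6, hk] 
    rw [hk] at hTc h5
    have h7 : (k + 1) * (k + 1) - 1 = (k + 2) * k := by
      have : (k + 1) * (k + 1) = (k + 2) * k + 1 := by ring
      omega
    rw [h7, Nat.add_sub_cancel]
    have h8 : 2 * T.card < k + 2 := by omega
    have h9 : T.card * (2 * k) = (2 * T.card) * k := by ring
    rw [h9]
    exact Nat.mul_lt_mul_of_pos_right h8 (by omega)
  obtain ⟨w, hw, hw'⟩ := Finset.exists_mem_notMem_of_card_lt_card hbad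
  refine ⟨w, (Finset.mem_erase.1 hw).1, fun y hy hyw => ?_⟩
  by_contra hns
  apply hw'
  obtain ⟨m, hm⟩ := units_smul (x := L.x ⟨cj K V y, hy⟩) (x' := y) (L.hx _)
  obtain ⟨l, hl⟩ := hyw
  have h10 : w ∈ E ⟨cj K V y, hy⟩ :=
    Finset.mem_filter.2 ⟨Finset.mem_univ _, (Finset.mem_erase.1 hw).1, m * l, by
      rw [hm, LinearMap.smul_apply, hl, smul_smul]⟩
  refine Finset.mem_biUnion.2 ⟨⟨cj K V y, hy⟩, Finset.mem_filter.2 ⟨Finset.mem_univ _, ?_, ⟨w, h10⟩⟩, h10⟩
  intro h
  exact hns ((cj_eq_one_iff y).1 (congrArg Subtype.val h))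

end cnt

end Cfsg.Agent.H706.FC
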