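import Cfsg.Agent.H706.FC.Cnt
import Cfsg.Agent.H563.FC.MT
import Cfsg.Agent.H786.FC.Parts

/-!
# S5764: extraspecial type normalizers, symplectic groups in dimension 8 (helper706)

`stmtBC6_sp8 : StmtBC6On false (fun n => n = 8)`.
-/

set_option autoImplicit false

namespace Cfsg.Agent.H706.FC

open Module Cfsg.Agent.H198.FC Cfsg.Agent.H277.FC Cfsg.Agent.H786.FC

universe u v

section sp

variable {K : Type u} [Field K] {V : Type v} [AddCommGroup V] [Module K V] {b : Cl K V}

/-- the linear form `B(·, w)` -/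
def bf (b : Cl K V) (w : V) : Dual K V where
  toFun v := b.B v w
  map_add' v v' := b.add_left v v' w
  map_smul' a v := by rw [b.smul_left]; rfl

theorem bf_apply (w v : V) : bf b w v = b.B v w := rfl

/-- `v ↦ c B(v, w) w` -/
def Nw (b : Cl K V) (w : V) : R K V := (bf b w).smulRight w

theorem Nw_apply (w v : V) : Nw b w v = b.B v w • w := rfl

theorem skew (hb : b.IsSp) (v w : V) : b.B w v = - b.B v w := by
  have h1 := hb.2 (v + w)
  rw [b.add_left, b.add_right, b.add_right, hb.2, hb.2, zero_add, add_zero] at h1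
  exact eq_neg_of_add_eq_zero_right h1

theorem adj_N (hb : b.IsSp) (w : V) (c : K) : b.Adj (c • Nw b w) (-(c • Nw b w)) := by
  intro v u
  rw [LinearMap.neg_apply, LinearMap.smul_apply, LinearMap.smul_apply, Nw_apply, Nw_apply, B_neg_right,
    b.smul_left, b.smul_left, b.smul_right, b.smul_right, hb.1, hb.1, skew hb u w]
  ring

theorem nil_N (hb : b.IsSp) {w : V} (hw : w ≠ 0) {c : K} (hc : c ≠ 0) : Nil b (c • Nw b w) w := by
  refine ⟨⟨c • bf b w, ?_, fun v => ?_⟩, hw, hb.2 w, adj_N hb w c⟩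
  · obtain ⟨v, hv⟩ := exists_right (b := b) hw
    intro h
    have h1 := LinearMap.congr_fun h v
    rw [LinearMap.smul_apply, bf_apply, smul_eq_mul, LinearMap.zero_apply] at h1
    rcases mul_eq_zero.1 h1 with h2 | h2
    · exact hc h2
    · exact hv h2
  · rw [LinearMap.smul_apply, Nw_apply, smul_smul, LinearMap.smul_apply, bf_apply, smul_eq_mul]

theorem isom_N (hb : b.IsSp) {N : R K V} {w : V} {c : K} (hN : N = c • Nw b w) (h : N * N = 0) :
    b.Isom (uN N h : R K V) := by
  intro v u
  have h1 : ∀ v, (uN N h : R K V) v = v + (c * b.B v w) • w := by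
    intro v
    rw [uN_val, hN, LinearMap.add_apply, Module.End.one_apply, LinearMap.smul_apply, Nw_apply, smul_smul]
  rw [h1, h1, b.add_left, b.add_right, b.add_right, b.smul_left, b.smul_left, b.smul_right, b.smul_right, hb.2,
    hb.1, skew hb u w]
  ring

theorem det_N [Module.Finite K V] {N : R K V} {w : V} {c : K} (hN : N = c • Nw b w) (hw : b.B w w = 0) (h : N * N = 0) :
    LinearMap.det (uN N h : R K V) = 1 := by
  have h0 : (c • bf b w) w = 0 := by rw [LinearMap.smul_apply, bf_apply, hw, smul_zero]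
  have h1 : (uN N h : R K V) = ((LinearEquiv.transvection h0 : V ≃ₗ[K] V) : V →ₗ[K] V) := by
    ext v
    rw [uN_val, hN, LinearMap.add_apply, Module.End.one_apply, LinearMap.smul_apply, Nw_apply, smul_smul]
    rfl
  have h2 := LinearEquiv.transvection.det_eq_one h0
  have h3 := congrArg Units.val h2
  rw [LinearEquiv.coe_det] at h3
  rw [h1]
  exact h3

/-- **StmtBC6, symplectic, dimension 8** -/
theorem fiveB_sp8 [Finite K] [Module.Finite K V] (hb : b.IsSp) (hn : finrank K V = 8)
    {S A : Subgroup (Equiv.Perm (R K V))} (hS : S ≤ RB b) (hsol : Group.IsSolvable S) {r a : ℕ}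
    (hA : C6Data S A r a) : FiveB b S := by
  have : Nontrivial V := Module.nontrivial_of_finrank_pos (R := K) (by omega)
  obtain ⟨hr, ha1, hra, hAS, hIN, hcard, hpow, hcomm, hspan, hnorm, hmin⟩ := hA
  have hr2 : r = 2 := by
    have h1 : r ∣ 8 := by rw [← hn, hra]; exact dvd_pow_self r (by omega)
    have h2 : r ∣ 2 ^ 3 := by norm_num; exact h1
    exact (Nat.prime_dvd_prime_iff_eq hr Nat.prime_two).1 (hr.dvd_of_dvd_pow h2)
  subst hr2
  have ha3 : a = 3 := by
    have h1 : 2 ^ a = 2 ^ 3 := by rw [← hra, hn]; norm_num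
    exact Nat.pow_right_injective (le_refl 2) h1
  subst ha3
  have hsp : Spn A := hspan
  obtain ⟨w, hw0, hw⟩ := exists_w hn hsp hIN hcomm hpow (by rw [hcard]; norm_num)
  have hN1 : Nw b w ≠ 0 := by
    have := (nil_N hb hw0 (one_ne_zero (α := K))).ne_zero
    rwa [one_smul] at this
  -- the stabilizer of the line in `C_S(A)`
  let C : Subgroup (Equiv.Perm (R K V)) :=
    { carrier := {f | f ∈ S ∧ (∀ c ∈ A, f * c = c * f) ∧ ∃ κ : K, f (Nw b w) = κ • Nw b w}
      one_mem' := ⟨one_mem _, fun c _ => by rw [one_mul, mul_one], 1, by rw [one_smul]; rfl⟩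
      mul_mem' := by
        rintro f g ⟨hf, hfA, κ, hκ⟩ ⟨hg, hgA, κ', hκ'⟩
        refine ⟨mul_mem hf hg, fun c hc => ?_, ?_⟩
        · rw [mul_assoc, hgA c hc, ← mul_assoc, hfA c hc, mul_assoc]
        · obtain ⟨σ, hσ⟩ := RP_sigma (RB_le (hS hf))
          refine ⟨σ κ' * κ, ?_⟩
          rw [Equiv.Perm.mul_apply, hκ', hσ, hκ, smul_smul]
      inv_mem' := by
        rintro f ⟨hf, hfA, κ, hκ⟩
        refine ⟨inv_mem hf, fun c hc => ?_, ?_⟩
        · rw [inv_mul_eq_iff_eq_mul, ← mul_assoc, hfA c hc, mul_assoc, mul_inv_cancel, mul_one]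
        · obtain ⟨σ, hσ⟩ := RP_sigma (RB_le (hS (inv_mem hf)))
          have hκ0 : κ ≠ 0 := by
            rintro rfl
            rw [zero_smul] at hκ
            have h1 := RP_map_zero (RB_le (hS hf))
            exact hN1 (f.injective (hκ.trans h1.symm))
          have h1 : (f⁻¹ : Equiv.Perm (R K V)) (κ • Nw b w) = Nw b w := by
            rw [← hκ]; exact Equiv.symm_apply_apply _ _
          rw [hσ] at h1
          refine ⟨(σ κ)⁻¹, ?_⟩
          have h2 : σ κ ≠ 0 := (map_ne_zero σ).2 hκ0
          calc (f⁻¹ : Equiv.Perm (R K V)) (Nw b w) = (σ κ)⁻¹ • (σ κ • (f⁻¹ : Equiv.Perm (R K V)) (Nw b w)) := by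
                rw [smul_smul, inv_mul_cancel₀ h2, one_smul]
            _ = _ := by rw [h1] }
  have hCmem : ∀ f, f ∈ C ↔ f ∈ S ∧ (∀ c ∈ A, f * c = c * f) ∧ ∃ κ : K, f (Nw b w) = κ • Nw b w := fun f => Iff.rfl
  obtain ⟨c, hc0, hc⟩ := exists_scalar (C := C) (fun f hf => RB_le (hS ((hCmem f).1 hf).1)) hN1
    (fun f hf => ((hCmem f).1 hf).2.2) (by
      intro f hf hlin
      obtain ⟨hfS, hfA, κ, hκ⟩ := (hCmem f).1 hf
      have hfP := RB_le (hS hfS)
      -- `f` is inner
      obtain ⟨h, ⟨hadd, σ, hσ⟩, hfh⟩ := stmtSN K V (by omega) f hfP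
      have hσ1 : ∀ t : K, σ t = t := by
        intro t
        obtain ⟨v, hv⟩ := exists_ne (0 : V)
        have h1 := hfh (t • (1 : R K V)) v
        rw [hlin, RP_map_one hfP, LinearMap.smul_apply, Module.End.one_apply, LinearMap.smul_apply,
          Module.End.one_apply, hσ] at h1
        have h2 : h v ≠ 0 := by
          intro h0
          have h3 : h 0 = 0 := by
            have := hadd 0 0
            rw [add_zero] at this
            simpa using this
          exact hv (h.injective (h0.trans h3.symm))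
        exact (smul_left_injective K h2 h1).symm
      let e : V ≃ₗ[K] V :=
        { h with
          map_add' := hadd
          map_smul' := fun t v => by
            change h (t • v) = t • h v
            rw [hσ, hσ1] }
      let y : (R K V)ˣ := ⟨(e : V →ₗ[K] V), (e.symm : V →ₗ[K] V), by ext v; exact e.apply_symm_apply v,
        by ext v; exact e.symm_apply_apply v⟩
      have hfy : f = cj K V y := by
        apply Equiv.ext
        intro X
        rw [cj_apply]
        have h1 : f X * (y : R K V) = (y : R K V) * X := by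
          ext v
          exact hfh X v
        rw [← h1, mul_assoc, Units.mul_inv, mul_one]
      have hyA : y ∈ Ah A := by
        refine mem_A_of_cent hsp hIN hcomm ?_ (y := y) (by rw [← hfy]; exact hfA)
        rw [hcard, Module.finrank_linearMap, hn]
        norm_num
      have hyw : ∃ l : K, (y : R K V) w = l • w := by
        obtain ⟨v, hv⟩ := exists_right (b := b) hw0
        have h1 : f (Nw b w) * (y : R K V) = (y : R K V) * Nw b w := by
          rw [hfy, cj_apply, mul_assoc, Units.inv_mul, mul_one]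
        rw [hκ] at h1
        have h2 := LinearMap.congr_fun h1 v
        rw [Module.End.mul_apply, Module.End.mul_apply, LinearMap.smul_apply, Nw_apply, Nw_apply, map_smul] at h2
        refine ⟨(b.B v w)⁻¹ * (κ * b.B ((y : R K V) v) w), ?_⟩
        rw [mul_smul, mul_smul, h2, smul_smul, inv_mul_cancel₀ hv, one_smul]
      rw [hfy]
      exact (cj_eq_one_iff y).2 (hw y hyA hyw))
  set N := c • Nw b w with hNdef
  have hNil : Nil b N w := nil_N hb hw0 hc0
  refine H563.FC.mtB hS ⟨hr, ha1, hra, hAS, hIN, hcard, hpow, hcomm, hspan, hnorm, hmin⟩ hsol (uN N hNil.sq)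
    (det_N hNdef (hb.2 w) _) (isom_N hb hNdef _) ?_
  intro f hfS hfA hx
  have hfB := hS hfS
  have hg := cj_mem_of (RB_le hfB) hfS hx
  have hfN : f N = N := fixN hn hsp hcomm hpow hNil hw hfB fun a ha => hnorm _ hg a ha
  refine hc f ((hCmem f).2 ⟨hfS, hfA, ?_⟩) hfN
  obtain ⟨σ, hσ⟩ := RP_sigma (RB_le hfB)
  have h1 : Nw b w = c⁻¹ • N := by rw [hNdef, smul_smul, inv_mul_cancel₀ hc0, one_smul]
  refine ⟨σ c⁻¹ * c, ?_⟩
  calc f (Nw b w) = f (c⁻¹ • N) := by rw [← h1]
    _ = σ c⁻¹ • N := by rw [hσ, hfN]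
    _ = _ := by rw [hNdef, smul_smul]

/-- **5398** -/
theorem stmtBC6_sp8 : StmtBC6On.{u, v} false fun n => n = 8 := by
  intro K _ _ V _ _ _ b hk _ hn S hS hsol A r a hA
  exact fiveB_sp8 (hk.2 rfl) hn hS hsol hA

end sp

end Cfsg.Agent.H706.FC
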