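import Cfsg.Agent.H706.FC.Tv

/-!
# S5764: choice of the scalar of a transvection (helper706)

`exists_scalar` : `C ≤ RP` a group fixing the line `K N`, the `K`-linear elements being trivial; then for some `c ≠ 0` no
non-trivial element of `C` fixes `c N` (Dedekind's independence).
`mem_A_of_cent` : a unit which centralizes `A` modulo scalars is a lift of an element of `A`.
-/

set_option autoImplicit false

namespace Cfsg.Agent.H706.FC

open Module Cfsg.Agent.H198.FC Cfsg.Agent.H277.FC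

universe u v

section spei

variable {K : Type u} [Field K] {V : Type v} [AddCommGroup V] [Module K V]

/-- the field automorphism of a ring automorphism of `R` -/
theorem RP_sigma [Nontrivial V] {f : Equiv.Perm (R K V)} (hf : f ∈ RP K V) :
    ∃ σ : K ≃+* K, ∀ (a : K) (X : R K V), f (a • X) = σ a • f X := by
  let F : Module.End K V ≃+* Module.End K V :=
    { f with
      map_mul' := hf.2
      map_add' := hf.1 }
  obtain ⟨σ, hσ⟩ := exists_sigma F
  refine ⟨σ, fun a X => ?_⟩
  have h1 : a • X = (a • (1 : R K V)) * X := by rw [smul_mul_assoc, one_mul]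
  have h2 : f (a • (1 : R K V)) = σ a • (1 : R K V) := hσ a
  rw [h1, hf.2, h2, smul_mul_assoc, one_mul]

theorem exists_scalar [Finite K] [Nontrivial V] [Module.Finite K V] {C : Subgroup (Equiv.Perm (R K V))}
    (hC : C ≤ RP K V) {N : R K V} (hN : N ≠ 0) (hk : ∀ f ∈ C, ∃ κ : K, f N = κ • N)
    (hlin : ∀ f ∈ C, (∀ (a : K) (X : R K V), f (a • X) = a • f X) → f = 1) :
    ∃ c : K, c ≠ 0 ∧ ∀ f ∈ C, f (c • N) = c • N → f = 1 := by
  classical
  have : Finite (R K V) := Module.finite_of_finite K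
  have : Fintype C := Fintype.ofFinite C
  choose σ hσ using fun f : C => RP_sigma (hC f.2)
  choose κ hκ using fun f : C => hk f f.2
  have hinj : ∀ f g : C, (∀ a, σ f a = σ g a) → f = g := by
    intro f g h
    have h1 : ((g⁻¹ * f : C) : Equiv.Perm (R K V)) = 1 := by
      refine hlin _ (g⁻¹ * f).2 fun a X => ?_
      have h2 : (g : Equiv.Perm (R K V)) (((g⁻¹ * f : C) : Equiv.Perm (R K V)) (a • X)) =
          (g : Equiv.Perm (R K V)) (a • ((g⁻¹ * f : C) : Equiv.Perm (R K V)) X) := by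
        have hgi : ∀ Y, (g : Equiv.Perm (R K V)) ((g : Equiv.Perm (R K V))⁻¹ Y) = Y := fun Y =>
          Equiv.apply_symm_apply _ _
        rw [hσ g]
        simp only [Subgroup.coe_mul, Subgroup.coe_inv, Equiv.Perm.mul_apply, hgi]
        rw [hσ f, h a]
      exact (g : Equiv.Perm (R K V)).injective h2
    have h3 : g⁻¹ * f = 1 := Subtype.ext h1
    exact (inv_mul_eq_one.1 h3).symm
  -- Dedekind
  have hli : LinearIndependent K (fun f : C => ((σ f : K ≃+* K).toMonoidHom : K → K)) := by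
    have h1 := linearIndependent_monoidHom K K
    refine h1.comp (fun f : C => (σ f : K ≃+* K).toMonoidHom) ?_
    intro f g h
    exact hinj f g fun a => DFunLike.congr_fun h a
  have hκ1 : κ 1 ≠ 0 := by
    intro h
    have h1 := hκ 1
    rw [h, zero_smul] at h1
    exact hN h1
  obtain ⟨a, ha⟩ : ∃ a, ∑ f : C, κ f * σ f a ≠ 0 := by
    by_contra hcon
    push Not at hcon
    have h1 := Fintype.linearIndependent_iff.1 hli κ (by
      funext a
      rw [Finset.sum_apply]
      exact hcon a) 1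
    exact hκ1 h1
  set c₀ := ∑ f : C, κ f * σ f a with hc₀
  have hsum : c₀ • N = ∑ f : C, (f : Equiv.Perm (R K V)) (a • N) := by
    rw [hc₀, Finset.sum_smul]
    refine Finset.sum_congr rfl fun f _ => ?_
    rw [hσ f, hκ f, smul_smul, mul_comm]
  have hfix : ∀ g : C, (g : Equiv.Perm (R K V)) (c₀ • N) = c₀ • N := by
    intro g
    let G : R K V →+ R K V := AddMonoidHom.mk' g (hC g.2).1
    have h1 : (g : Equiv.Perm (R K V)) (c₀ • N) = ∑ f : C, G ((f : Equiv.Perm (R K V)) (a • N)) := by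
      rw [hsum, ← map_sum]
      rfl
    rw [h1, hsum]
    refine Fintype.sum_equiv (Equiv.mulLeft g) _ _ fun f => ?_
    rfl
  obtain ⟨d, hd⟩ := IsCyclic.exists_generator (α := Kˣ)
  refine ⟨d * c₀, mul_ne_zero d.ne_zero ha, fun f hf h => ?_⟩
  have h1 : σ ⟨f, hf⟩ d = d := by
    rw [mul_smul] at h
    have h2 := hσ ⟨f, hf⟩ d (c₀ • N)
    rw [hfix ⟨f, hf⟩] at h2
    have h3 : (σ ⟨f, hf⟩ d) • (c₀ • N) = (d : K) • (c₀ • N) := by rw [← h2]; exact h
    exact smul_left_injective K (smul_ne_zero ha hN) h3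
  refine hlin f hf fun a X => ?_
  have h2 : σ ⟨f, hf⟩ a = a := by
    by_cases ha0 : a = 0
    · rw [ha0, map_zero]
    · obtain ⟨k, hk⟩ := hd (Units.mk0 a ha0)
      have h4 : a = (d : K) ^ k := by
        have := congrArg Units.val hk
        simpa using this.symm
      rw [h4, map_zpow₀, h1]
  have h3 := hσ ⟨f, hf⟩ a X
  rw [h2] at h3
  exact h3

theorem units_smul {x x' : (R K V)ˣ} [Nontrivial V] (h : cj K V x = cj K V x') : ∃ c : K, (x : R K V) = c • (x' : R K V) := by
  have h1 : cj K V (x'⁻¹ * x) = 1 := by rw [map_mul, map_inv, h, inv_mul_cancel]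
  obtain ⟨c, hc⟩ := (cj_eq_one_iff _).1 h1
  refine ⟨c, ?_⟩
  have h2 : (x : R K V) = (x' : R K V) * ((x'⁻¹ * x : (R K V)ˣ) : R K V) := by simp
  rw [h2, hc, mul_smul_comm, mul_one]

/-- **`C(A) ∩ PGL(V) = A`** -/
theorem mem_A_of_cent [Nontrivial V] [Module.Finite K V] {A : Subgroup (Equiv.Perm (R K V))} (hsp : Spn A)
    (hIN : A ≤ IN K V) (hc : ∀ f ∈ A, ∀ g ∈ A, f * g = g * f) (hcard : Nat.card A = finrank K (R K V))
    {y : (R K V)ˣ} (hy : ∀ a ∈ A, cj K V y * a = a * cj K V y) : cj K V y ∈ A := by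
  classical
  have hpos : 0 < finrank K (R K V) := finrank_pos
  have hfin : Finite A := Nat.finite_of_card_ne_zero (by omega)
  have : Fintype A := Fintype.ofFinite A
  choose x hx using fun a : A => hIN a.2
  have hspan : ⊤ ≤ Submodule.span K (Set.range fun a : A => (x a : R K V)) := by
    rw [← hsp, Submodule.span_le]
    rintro _ ⟨z, rfl, hz⟩
    obtain ⟨c, hcz⟩ := units_smul (x := z) (x' := x ⟨cj K V z, hz⟩) (hx ⟨cj K V z, hz⟩).symm
    rw [hcz]
    exact Submodule.smul_mem _ _ (Submodule.subset_span ⟨_, rfl⟩)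
  have hli : LinearIndependent K (fun a : A => (x a : R K V)) :=
    linearIndependent_of_top_le_span_of_card_eq_finrank hspan (by rw [← Nat.card_eq_fintype_card, hcard])
  obtain ⟨μ, hμ⟩ : ∃ μ : A → K, (y : R K V) = ∑ a, μ a • (x a : R K V) := by
    have h1 : (y : R K V) ∈ Submodule.span K (Set.range fun a : A => (x a : R K V)) := hspan trivial
    obtain ⟨μ, hμ⟩ := (Submodule.mem_span_range_iff_exists_fun K).1 h1
    exact ⟨μ, hμ.symm⟩
  obtain ⟨a₀, ha₀⟩ : ∃ a, μ a ≠ 0 := by
    by_contra hcon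
    push Not at hcon
    have h1 : (y : R K V) = 0 := by
      rw [hμ]
      exact Finset.sum_eq_zero fun a _ => by rw [hcon a, zero_smul]
    exact unit_ne_zero y h1
  have hz : Sc (((x a₀)⁻¹ * y : (R K V)ˣ) : R K V) := by
    by_contra hns
    obtain ⟨b, hb, hne⟩ := exists_not_comm hsp hns
    apply hne
    obtain ⟨ζ, hζ⟩ := exists_zeta (x := b) (y := y) (hy _ hb).symm
    choose ε hε using fun a : A => exists_zeta (x := b) (y := x a) (by rw [hx a]; exact hc _ hb _ a.2)
    have h1 : ∑ a, (μ a * ε a - ζ * μ a) • (x a : R K V) = 0 := by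
      have h2 : (b : R K V) * y = (∑ a, (μ a * ε a) • (x a : R K V)) * b := by
        rw [hμ, Finset.mul_sum, Finset.sum_mul]
        refine Finset.sum_congr rfl fun a _ => ?_
        rw [mul_smul_comm, hε a, smul_smul, smul_mul_assoc]
      have h3 : ζ • ((y : R K V) * b) = (∑ a, (ζ * μ a) • (x a : R K V)) * b := by
        rw [hμ, Finset.sum_mul, Finset.sum_mul, Finset.smul_sum]
        refine Finset.sum_congr rfl fun a _ => ?_
        rw [smul_mul_assoc, smul_smul, smul_mul_assoc]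
      rw [hζ, h3] at h2
      have h4 := congrArg (fun Z => Z * ((b⁻¹ : (R K V)ˣ) : R K V)) h2
      simp only [mul_assoc, Units.mul_inv, mul_one] at h4
      simp only [sub_smul, Finset.sum_sub_distrib]
      rw [← h4, sub_self]
    have h5 := Fintype.linearIndependent_iff.1 hli _ h1 a₀
    have h6 : ε a₀ = ζ := by
      have h7 : μ a₀ * (ε a₀ - ζ) = 0 := by rw [← h5]; ring
      rcases mul_eq_zero.1 h7 with h8 | h8
      · exact absurd h8 ha₀
      · exact sub_eq_zero.1 h8
    have h9 := hε a₀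
    rw [h6] at h9
    have hζ0 : ζ ≠ 0 := by
      rintro rfl
      rw [zero_smul] at hζ
      exact unit_ne_zero (b * y) hζ
    -- `b (x⁻¹ y) = (x⁻¹ y) b`
    have h10 : (x a₀ : R K V) * (((x a₀)⁻¹ * y : (R K V)ˣ) : R K V) = y := by simp
    have h11 : (x a₀ : R K V) * ((b : R K V) * (((x a₀)⁻¹ * y : (R K V)ˣ) : R K V)) =
        (x a₀ : R K V) * ((((x a₀)⁻¹ * y : (R K V)ˣ) : R K V) * b) := by
      rw [← mul_assoc, ← mul_assoc, h10]
      have h12 : (x a₀ : R K V) * b = ζ⁻¹ • ((b : R K V) * x a₀) := by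
        rw [h9, smul_smul, inv_mul_cancel₀ hζ0, one_smul]
      rw [h12, smul_mul_assoc, mul_assoc, h10, hζ, smul_smul, inv_mul_cancel₀ hζ0, one_smul]
    have h13 := congrArg (fun Z => (((x a₀)⁻¹ : (R K V)ˣ) : R K V) * Z) h11
    simp only [← mul_assoc, Units.inv_mul, one_mul] at h13
    exact h13.symm
  have h1 := (cj_eq_one_iff _).2 hz
  rw [map_mul, map_inv, inv_mul_eq_one, hx a₀] at h1
  rw [← h1]
  exact a₀.2

end spei

end Cfsg.Agent.H706.FC
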